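import Groth.Agent.S2451
import Mathlib

/-!
Subfields of purely inseparable corank of a separably generated field of transcendence degree one.
-/

set_option autoImplicit false
set_option linter.style.haveILetI false
universe u

namespace Groth.Agent.FrobDeg

open IntermediateField

variable {k K : Type u} [Field k] [Field K] [Algebra k K]

theorem exists_separating (p : ℕ) (hp : p.Prime) [CharP k p] [Algebra.EssFiniteType k K]
    [Algebra.IsGeometricallyReduced k K] (htr : Algebra.trdeg k K = 1) :
    ∃ x : K, Algebra.IsSeparable (IntermediateField.adjoin k ({x} : Set K)) K := by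
  classical
  haveI : ExpChar k p := .prime hp
  obtain ⟨s, hs, hsep⟩ := exists_isTranscendenceBasis_and_isSeparable_of_linearIndepOn_pow_of_essFiniteType
    p hp (fun s hs => S2451.linearIndepOn_pow (k := k) (L := K) p hp s hs)
  obtain ⟨x, rfl⟩ : ∃ x, s = {x} := Finset.card_eq_one.1 (by
    have h := hs.cardinalMk_eq_trdeg
    rw [htr] at h
    simpa using h)
  refine ⟨x, ?_⟩
  rwa [Finset.coe_singleton] at hsep

/-- The minimal polynomial degree bound in a finite purely inseparable extension. -/
theorem pow_finrank_mem (F : Type u) [Field F] [Algebra F K] (p : ℕ) [Fact p.Prime] [CharP F p]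
    [IsPurelyInseparable F K] [FiniteDimensional F K] (r : ℕ) (hr : Module.finrank F K = p ^ r) (z : K) :
    z ^ p ^ r ∈ Set.range (algebraMap F K) := by
  haveI : ExpChar F p := .prime Fact.out
  obtain ⟨n, w, hw⟩ := IsPurelyInseparable.minpoly_eq_X_pow_sub_C F p z
  have hdvd : (minpoly F z).natDegree ∣ p ^ r := by
    rw [← hr, ← IntermediateField.adjoin.finrank (IsIntegral.of_finite F z)]
    exact ⟨Module.finrank (IntermediateField.adjoin F ({z} : Set K)) K, (Module.finrank_mul_finrank _ _ _).symm⟩
  rw [hw, Polynomial.natDegree_X_pow_sub_C] at hdvd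
  have hn : n ≤ r := (Nat.pow_dvd_pow_iff_le_right (Fact.out : p.Prime).one_lt).1 hdvd
  have hzn : z ^ p ^ n = algebraMap F K w := by
    have h2 := minpoly.aeval F z
    rw [hw, map_sub, Polynomial.aeval_X_pow, Polynomial.aeval_C, sub_eq_zero] at h2
    exact h2
  refine ⟨w ^ p ^ (r - n), ?_⟩
  rw [map_pow, ← hzn, ← pow_mul, ← pow_add, Nat.add_sub_cancel' hn]

/-- A subfield containing `k` and all `p^r`-th powers has corank at most `p^r`. -/
theorem finite_and_finrank_le (p : ℕ) [Fact p.Prime] [CharP K p] {x : K}
    [Algebra.IsSeparable (IntermediateField.adjoin k ({x} : Set K)) K] (L : IntermediateField k K) (r : ℕ)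
    (hL : ∀ z : K, z ^ p ^ r ∈ L) : FiniteDimensional L K ∧ Module.finrank L K ≤ p ^ r := by
  haveI : CharP L p := (RingHom.charP_iff _ (algebraMap L K).injective p).2 ‹_›
  haveI : ExpChar L p := .prime Fact.out
  haveI : IsPurelyInseparable L K := (isPurelyInseparable_iff_pow_mem L p).2 fun z => ⟨r, ⟨_, hL z⟩, rfl⟩
  set E := IntermediateField.adjoin L ({x} : Set K)
  have htop : E = ⊤ := by
    have hle : IntermediateField.adjoin k ({x} : Set K) ≤ E.restrictScalars k := by
      rw [adjoin_simple_le_iff]; exact mem_adjoin_simple_self L x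
    letI : Algebra (IntermediateField.adjoin k ({x} : Set K)) E :=
      (IntermediateField.inclusion hle).toRingHom.toAlgebra
    haveI : IsScalarTower (IntermediateField.adjoin k ({x} : Set K)) E K :=
      IsScalarTower.of_algebraMap_eq fun _ => rfl
    haveI : Algebra.IsSeparable E K :=
      Algebra.isSeparable_tower_top_of_isSeparable (IntermediateField.adjoin k ({x} : Set K)) E K
    haveI : IsPurelyInseparable E K := IsPurelyInseparable.tower_top L E K
    refine top_le_iff.1 fun z _ => ?_
    obtain ⟨e, rfl⟩ := IsPurelyInseparable.surjective_algebraMap_of_isSeparable E K z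
    exact e.2
  have hpoly : (Polynomial.X ^ p ^ r - Polynomial.C (⟨_, hL x⟩ : L)).Monic :=
    Polynomial.monic_X_pow_sub_C _ (pow_ne_zero _ (Fact.out : p.Prime).ne_zero)
  have hroot : Polynomial.aeval x (Polynomial.X ^ p ^ r - Polynomial.C (⟨_, hL x⟩ : L)) = 0 := by simp
  have hint : IsIntegral L x := ⟨_, hpoly, hroot⟩
  haveI hfd : FiniteDimensional L E := IntermediateField.adjoin.finiteDimensional hint
  have hrk : Module.finrank L E ≤ p ^ r := by
    rw [IntermediateField.adjoin.finrank hint, ← Polynomial.natDegree_X_pow_sub_C (n := p ^ r) (r := (⟨_, hL x⟩ : L))]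
    exact Polynomial.natDegree_le_of_dvd (minpoly.dvd _ _ hroot) hpoly.ne_zero
  rw [htop] at hfd hrk
  exact ⟨IntermediateField.topEquiv.toLinearEquiv.finiteDimensional, by rwa [IntermediateField.finrank_top'] at hrk⟩

/-- `k K^q` is the only subfield of purely inseparable corank `q`. -/
theorem fieldRange_eq (p : ℕ) [Fact p.Prime] [CharP k p] [Algebra.EssFiniteType k K]
    [Algebra.IsGeometricallyReduced k K] (htr : Algebra.trdeg k K = 1) (F : Type u) [Field F] [Algebra k F]
    [Algebra F K] [IsScalarTower k F K] [IsPurelyInseparable F K] [FiniteDimensional F K] (r : ℕ)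
    (hr : Module.finrank F K = p ^ r) (L : IntermediateField k K) (hLF : L ≤ (IsScalarTower.toAlgHom k F K).fieldRange)
    (hL : ∀ z : K, z ^ p ^ r ∈ L) : L = (IsScalarTower.toAlgHom k F K).fieldRange := by
  haveI : CharP K p := charP_of_injective_algebraMap (algebraMap k K).injective p
  obtain ⟨x, hx⟩ := exists_separating p Fact.out htr
  obtain ⟨hfin, hle⟩ := finite_and_finrank_le p (x := x) L r hL
  haveI := hfin
  set F' := (IsScalarTower.toAlgHom k F K).fieldRange
  have h1 : Module.finrank F' K = p ^ r := by
    rw [← hr]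
    exact (Algebra.finrank_eq_of_equiv_equiv (AlgEquiv.ofInjectiveField (IsScalarTower.toAlgHom k F K)).toRingEquiv
      (RingEquiv.refl K) (by ext; rfl)).symm
  refine IntermediateField.eq_of_le_of_finrank_le' hLF (hle.trans_eq h1.symm)

end Groth.Agent.FrobDeg
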