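import Groth.Agent.FrobDeg.Field
import Mathlib

/-!
`[K : k K^p] = p ^ trdeg` for separably generated fields.
-/

set_option autoImplicit false
set_option linter.style.haveILetI false
set_option synthInstance.maxHeartbeats 400000
set_option maxHeartbeats 1600000
universe u

namespace Groth.Agent.FrobDeg

open IntermediateField TensorProduct

variable {k K : Type u} [Field k] [Field K] [Algebra k K]

theorem linearIndependent_D {σ : Type u} {t : σ → K} (ht : AlgebraicIndependent k t)
    [Algebra.IsSeparable (IntermediateField.adjoin k (Set.range t)) K] :
    LinearIndependent K fun i => KaehlerDifferential.D k K (t i) := by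
  let P := MvPolynomial σ k
  let L := IntermediateField.adjoin k (Set.range t)
  letI : Algebra (FractionRing P) L := ht.aevalEquivField.toAlgHom.toRingHom.toAlgebra
  letI : Algebra (FractionRing P) K := ((algebraMap L K).comp (algebraMap (FractionRing P) L)).toAlgebra
  letI : Algebra P K := ((algebraMap (FractionRing P) K).comp (algebraMap P (FractionRing P))).toAlgebra
  haveI : IsScalarTower P (FractionRing P) K := IsScalarTower.of_algebraMap_eq fun _ => rfl
  have hX : ∀ i, algebraMap P K (MvPolynomial.X i) = t i := fun i => by
    show ((ht.aevalEquivField (algebraMap P (FractionRing P) (MvPolynomial.X i)) : L) : K) = t i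
    simp [P]
  haveI : IsScalarTower k P K := IsScalarTower.of_algebraMap_eq fun c => by
    show algebraMap k K c = ((ht.aevalEquivField (algebraMap P (FractionRing P) (algebraMap k P c)) : L) : K)
    rw [← IsScalarTower.algebraMap_apply k P (FractionRing P), AlgEquiv.commutes]
    rfl
  haveI : Algebra.FormallyEtale (FractionRing P) L :=
    Algebra.FormallyEtale.of_equiv (AlgEquiv.ofBijective (Algebra.ofId (FractionRing P) L) ht.aevalEquivField.bijective)
  haveI : IsScalarTower (FractionRing P) L K := IsScalarTower.of_algebraMap_eq fun _ => rfl
  haveI : Algebra.FormallyEtale L K := Algebra.FormallyEtale.of_isSeparable L K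
  haveI : Algebra.FormallyEtale (FractionRing P) K := Algebra.FormallyEtale.comp (FractionRing P) L K
  haveI : Algebra.FormallyEtale P (FractionRing P) := Algebra.FormallyEtale.of_isLocalization (nonZeroDivisors P)
  haveI : Algebra.FormallyEtale P K := Algebra.FormallyEtale.comp P (FractionRing P) K
  let b := (Algebra.TensorProduct.basis K (KaehlerDifferential.mvPolynomialBasis k σ)).map
    (KaehlerDifferential.tensorKaehlerEquivOfFormallyEtale k P K)
  have hb : (fun i => KaehlerDifferential.D k K (t i)) = b := funext fun i => by
    simp only [b, Module.Basis.map_apply, Algebra.TensorProduct.basis_apply, KaehlerDifferential.mvPolynomialBasis_apply]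
    rw [← hX i, ← KaehlerDifferential.tensorKaehlerEquivOfFormallyEtale_symm_D_algebraMap k P K, LinearEquiv.apply_symm_apply]
  rw [hb]
  exact b.linearIndependent

theorem finrank_adjoin_pow (p : ℕ) [Fact p.Prime] [CharP k p] {σ : Type u} [Finite σ] {t : σ → K}
    (ht : IsTranscendenceBasis k t) [Algebra.IsSeparable (IntermediateField.adjoin k (Set.range t)) K] :
    Module.finrank (IntermediateField.adjoin k (Set.range fun z : K => z ^ p)) K = p ^ Nat.card σ := by
  classical
  haveI : CharP K p := charP_of_injective_algebraMap (algebraMap k K).injective p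
  set L := IntermediateField.adjoin k (Set.range fun z : K => z ^ p)
  have hL : ∀ z : K, z ^ p ∈ L := fun z => subset_adjoin _ _ ⟨z, rfl⟩
  have hD : ∀ z ∈ L, KaehlerDifferential.D k K z = 0 := by
    intro z hz
    induction hz using IntermediateField.adjoin_induction with
    | mem w hw =>
      obtain ⟨u, rfl⟩ := hw
      rw [Derivation.leibniz_pow, ← Nat.cast_smul_eq_nsmul K, CharP.cast_eq_zero, zero_smul]
    | algebraMap c => exact Derivation.map_algebraMap _ c
    | add a b _ _ ha hb => rw [map_add, ha, hb, add_zero]
    | inv a _ ha => rw [Derivation.leibniz_inv, ha, smul_zero]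
    | mul a b _ _ ha hb => rw [Derivation.leibniz, ha, hb, smul_zero, smul_zero, add_zero]
  haveI : CharP L p := (RingHom.charP_iff _ (algebraMap L K).injective p).2 ‹_›
  haveI : ExpChar L p := .prime Fact.out
  haveI : IsPurelyInseparable L K := (isPurelyInseparable_iff_pow_mem L p).2 fun z =>
    ⟨1, ⟨⟨z ^ p, hL z⟩, by simp⟩⟩
  have hind := linearIndependent_D ht.1
  have key : ∀ A : Finset σ, Module.finrank L (IntermediateField.adjoin L (t '' (A : Set σ))) = p ^ A.card := by
    intro A
    induction A using Finset.induction_on with
    | empty => simp
    | insert a A ha ih =>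
      set E := IntermediateField.adjoin L (t '' (A : Set σ))
      have hE : ∀ z ∈ E, KaehlerDifferential.D k K z ∈
          Submodule.span K ((fun i => KaehlerDifferential.D k K (t i)) '' (A : Set σ)) := by
        intro z hz
        induction hz using IntermediateField.adjoin_induction with
        | mem w hw => obtain ⟨i, hi, rfl⟩ := hw; exact Submodule.subset_span ⟨i, hi, rfl⟩
        | algebraMap c => rw [show algebraMap L K c = (c : K) from rfl, hD _ c.2]; exact zero_mem _
        | add a b _ _ ha hb => rw [map_add]; exact add_mem ha hb
        | inv a _ ha => rw [Derivation.leibniz_inv]; exact Submodule.smul_mem _ _ ha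
        | mul a b _ _ ha hb => rw [Derivation.leibniz]; exact add_mem (Submodule.smul_mem _ a hb) (Submodule.smul_mem _ b ha)
      have hta : t a ∉ E := fun h => (linearIndepOn_iff_notMem_span.1 (hind.linearIndepOn (s := Set.univ)) a trivial)
        (Submodule.span_mono (Set.image_mono (show (A : Set σ) ⊆ Set.univ \ {a} from fun i hi => ⟨trivial, fun e => ha (e ▸ hi)⟩)) (hE _ h))
      haveI : CharP E p := (RingHom.charP_iff _ (algebraMap E K).injective p).2 ‹_›
      haveI : ExpChar E p := .prime Fact.out
      have hmemE : t a ^ p ∈ E := E.algebraMap_mem ⟨_, hL (t a)⟩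
      have hirr : Irreducible (Polynomial.X ^ p - Polynomial.C (⟨_, hmemE⟩ : E)) :=
        X_pow_sub_C_irreducible_of_prime Fact.out fun b hb => hta (by
          have h2 : (b : K) ^ p = t a ^ p := congrArg Subtype.val hb
          rw [← frobenius_inj K p (show frobenius K p (b : K) = frobenius K p (t a) from h2)]
          exact b.2)
      have hp0 : p ≠ 0 := (Fact.out : p.Prime).ne_zero
      have hmin : Polynomial.X ^ p - Polynomial.C (⟨_, hmemE⟩ : E) = minpoly E (t a) :=
        minpoly.eq_of_irreducible_of_monic hirr (by simp [IntermediateField.algebraMap_apply])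
          (Polynomial.monic_X_pow_sub_C _ hp0)
      have hdeg : Module.finrank E (IntermediateField.adjoin E ({t a} : Set K)) = p := by
        rw [IntermediateField.adjoin.finrank (Algebra.IsIntegral.isIntegral (t a)), ← hmin,
          Polynomial.natDegree_X_pow_sub_C]
      have heq : (IntermediateField.adjoin E ({t a} : Set K)).restrictScalars L =
          IntermediateField.adjoin L (t '' ((insert a A : Finset σ) : Set σ)) := by
        rw [IntermediateField.adjoin_adjoin_left, Finset.coe_insert, Set.image_insert_eq, Set.union_singleton]
      rw [← heq, Finset.card_insert_of_notMem ha, pow_succ, ← ih, ← hdeg]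
      exact (Module.finrank_mul_finrank L E (IntermediateField.adjoin E ({t a} : Set K))).symm
  haveI := Fintype.ofFinite σ
  have htop : IntermediateField.adjoin L (Set.range t) = ⊤ := by
    set E := IntermediateField.adjoin L (Set.range t)
    have hle : IntermediateField.adjoin k (Set.range t) ≤ E.restrictScalars k := by
      rw [adjoin_le_iff]; exact subset_adjoin L _
    letI : Algebra (IntermediateField.adjoin k (Set.range t)) E :=
      (IntermediateField.inclusion hle).toRingHom.toAlgebra
    haveI : IsScalarTower (IntermediateField.adjoin k (Set.range t)) E K :=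
      IsScalarTower.of_algebraMap_eq fun _ => rfl
    haveI : Algebra.IsSeparable E K :=
      Algebra.isSeparable_tower_top_of_isSeparable (IntermediateField.adjoin k (Set.range t)) E K
    haveI : IsPurelyInseparable E K := IsPurelyInseparable.tower_top L E K
    refine top_le_iff.1 fun z _ => ?_
    obtain ⟨e, rfl⟩ := IsPurelyInseparable.surjective_algebraMap_of_isSeparable E K z
    exact e.2
  have h := key Finset.univ
  rw [Finset.coe_univ, Set.image_univ, htop, IntermediateField.finrank_top'] at h
  rw [h, Finset.card_univ, Nat.card_eq_fintype_card]

end Groth.Agent.FrobDeg
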